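import Cfsg.Agent.H865.EE.Defs

/-!
# The `D₄`-relations from relations between generators (S3384, task T4a)

`D4Pre X L` : all conditions of `D4Sys X`, with the given subgroups `L i`, except `⨆ i, L i = ⊤`.
-/

set_option autoImplicit false

namespace Cfsg.Agent.H893.EE

open Cfsg.Agent.H865.EE

/-- the conditions of `D4Sys X` for given `L i`, without `⨆ i, L i = ⊤` -/
def D4Pre (X : Type*) [Group X] (L : Fin 4 → Subgroup X) : Prop :=
  ∃ (E : Subgroup X) (H : Fin 4 → Subgroup X) (n : Fin 4 → X),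
    Nat.card E = 625 ∧ (∀ a ∈ E, ∀ b ∈ E, a * b = b * a) ∧
    (∀ i, H i ≤ E) ∧ (∀ i, Nat.card (H i) = 125) ∧
    (∀ i, ⁅L i, L i⁆ = L i) ∧ (∀ i, L i ≠ ⊥) ∧ (∀ i, ∀ x ∈ L i, ∀ h ∈ H i, x * h = h * x) ∧
    (∀ i, n i ∈ L i) ∧ (∀ i, ∀ e ∈ E, n i * e * (n i)⁻¹ ∈ E) ∧
    (∀ i, ∀ e ∈ E, n i ^ 2 * e = e * n i ^ 2) ∧ (∀ i, ∃ e ∈ E, n i * e ≠ e * n i) ∧
    (∀ i j, i ≠ j → ∃ e ∈ E, (n i * n j) * e ≠ e * (n i * n j)) ∧
    (∀ i j, Adj i j → ∀ e ∈ E, (n i * n j) ^ 3 * e = e * (n i * n j) ^ 3) ∧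
    (∀ i j, i ≠ j → ¬ Adj i j → ∀ e ∈ E, (n i * n j) ^ 2 * e = e * (n i * n j) ^ 2)

theorem D4Pre.sys {X : Type*} [Group X] {L : Fin 4 → Subgroup X} (h : D4Pre X L) (hL : ⨆ i, L i = ⊤) : D4Sys X := by
  obtain ⟨E, H, n, h1, h2, h3, h4, h5, h6, h7, h8, h9, h10, h11, h12, h13, h14⟩ := h
  exact ⟨E, H, L, n, h1, h2, h3, h4, h5, h6, h7, h8, h9, h10, h11, h12, h13, h14, hL⟩

/-- the group `(ℤ/5)⁴` -/
abbrev V4 : Type := Fin 4 → ZMod 5

/-- the roots -/
def rt : Fin 4 → V4 := ![![1, -1, 0, 0], ![0, 1, -1, 0], ![0, 0, 1, -1], ![0, 0, 1, 1]]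

/-- the coroot functionals -/
def lam (i : Fin 4) : V4 →+ ZMod 5 where
  toFun v := rt i 0 * v 0 + rt i 1 * v 1 + rt i 2 * v 2 + rt i 3 * v 3
  map_zero' := by simp
  map_add' u v := by simp only [Pi.add_apply]; ring

theorem lam_apply (i : Fin 4) (v : V4) : lam i v = rt i 0 * v 0 + rt i 1 * v 1 + rt i 2 * v 2 + rt i 3 * v 3 := rfl

theorem lam_smul (i : Fin 4) (t : ZMod 5) (v : V4) : lam i (t • v) = t * lam i v := by
  rw [lam_apply, lam_apply]
  simp only [Pi.smul_apply, smul_eq_mul]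
  ring

theorem lam_rt (i : Fin 4) : lam i (rt i) = 2 := by
  revert i; decide +kernel

/-- the reflections -/
def sR (i : Fin 4) (v : V4) : V4 := v - lam i v • rt i

theorem sR0 (v : V4) : sR 0 v = ![v 1, v 0, v 2, v 3] := by
  unfold sR
  rw [lam_apply]
  ext k
  fin_cases k <;> simp [rt]

theorem sR1 (v : V4) : sR 1 v = ![v 0, v 2, v 1, v 3] := by
  unfold sR
  rw [lam_apply]
  ext k
  fin_cases k <;> simp [rt]

theorem sR2 (v : V4) : sR 2 v = ![v 0, v 1, v 3, v 2] := by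
  unfold sR
  rw [lam_apply]
  ext k
  fin_cases k <;> simp [rt]

theorem sR3 (v : V4) : sR 3 v = ![v 0, v 1, -v 3, -v 2] := by
  unfold sR
  rw [lam_apply]
  ext k
  fin_cases k <;> simp [rt]

theorem sR_sq (i : Fin 4) (v : V4) : sR i (sR i v) = v := by
  fin_cases i
  · show sR 0 (sR 0 v) = v
    rw [sR0, sR0]; ext k; fin_cases k <;> simp
  · show sR 1 (sR 1 v) = v
    rw [sR1, sR1]; ext k; fin_cases k <;> simp
  · show sR 2 (sR 2 v) = v
    rw [sR2, sR2]; ext k; fin_cases k <;> simp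
  · show sR 3 (sR 3 v) = v
    rw [sR3, sR3]; ext k; fin_cases k <;> simp

theorem sR_adj (i j : Fin 4) (h : Adj i j) (v : V4) : sR i (sR j (sR i (sR j (sR i (sR j v))))) = v := by
  have h' : (i = 1 ∧ (j = 0 ∨ j = 2 ∨ j = 3)) ∨ (j = 1 ∧ (i = 0 ∨ i = 2 ∨ i = 3)) := by
    revert i j; decide
  rcases h' with ⟨rfl, rfl | rfl | rfl⟩ | ⟨rfl, rfl | rfl | rfl⟩
  · simp only [sR0, sR1]; ext k; fin_cases k <;> simp
  · simp only [sR2, sR1]; ext k; fin_cases k <;> simp
  · simp only [sR3, sR1]; ext k; fin_cases k <;> simp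
  · simp only [sR0, sR1]; ext k; fin_cases k <;> simp
  · simp only [sR2, sR1]; ext k; fin_cases k <;> simp
  · simp only [sR3, sR1]; ext k; fin_cases k <;> simp

theorem sR_nadj (i j : Fin 4) (hij : i ≠ j) (h : ¬ Adj i j) (v : V4) : sR i (sR j (sR i (sR j v))) = v := by
  have h' : (i = 0 ∧ j = 2) ∨ (i = 0 ∧ j = 3) ∨ (i = 2 ∧ j = 3) ∨ (j = 0 ∧ i = 2) ∨ (j = 0 ∧ i = 3) ∨ (j = 2 ∧ i = 3) := by
    revert i j; decide
  rcases h' with ⟨rfl, rfl⟩ | ⟨rfl, rfl⟩ | ⟨rfl, rfl⟩ | ⟨rfl, rfl⟩ | ⟨rfl, rfl⟩ | ⟨rfl, rfl⟩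
  · simp only [sR0, sR2]; ext k; fin_cases k <;> simp
  · simp only [sR0, sR3]; ext k; fin_cases k <;> simp
  · simp only [sR2, sR3]; ext k; fin_cases k <;> simp
  · simp only [sR0, sR2]; ext k; fin_cases k <;> simp
  · simp only [sR0, sR3]; ext k; fin_cases k <;> simp
  · simp only [sR2, sR3]; ext k; fin_cases k <;> simp

theorem sR_ne (i : Fin 4) : sR i ![0, 1, 2, 4] ≠ ![0, 1, 2, 4] := by
  revert i; decide +kernel

theorem sR_ne2 (i j : Fin 4) (hij : i ≠ j) : sR i (sR j ![0, 1, 2, 4]) ≠ ![0, 1, 2, 4] := by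
  intro h
  have h2 : sR j ![0, 1, 2, 4] = sR i ![0, 1, 2, 4] := by
    have := congrArg (sR i) h
    rwa [sR_sq] at this
  revert h2
  revert i j
  decide +kernel

theorem card_ker (i : Fin 4) : Nat.card ↥(lam i).ker = 125 := by
  have hrt : ∀ i, rt i 2 ≠ 0 ∨ rt i 1 ≠ 0 := by decide
  have : Fact (Nat.Prime 5) := ⟨by norm_num⟩
  have hs : Function.Surjective (lam i) := by
    intro x
    have h1 : rt i 2 ≠ 0 ∨ rt i 1 ≠ 0 := hrt i
    rcases h1 with h1 | h1
    · refine ⟨Pi.single 2 ((rt i 2)⁻¹ * x), ?_⟩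
      rw [lam_apply]
      simp only [Pi.single_apply]
      simp [mul_inv_cancel_left₀ h1]
    · refine ⟨Pi.single 1 ((rt i 1)⁻¹ * x), ?_⟩
      rw [lam_apply]
      simp only [Pi.single_apply]
      simp [mul_inv_cancel_left₀ h1]
  have h1 : Nat.card ↥(lam i).ker * (lam i).ker.index = Nat.card V4 := AddSubgroup.card_mul_index _
  have h2 : (lam i).ker.index = 5 := by
    rw [AddSubgroup.index_ker, AddMonoidHom.range_eq_top.2 hs]
    simp
  rw [h2] at h1
  have h3 : Nat.card V4 = 625 := by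
    rw [Nat.card_eq_fintype_card, Fintype.card_fun, ZMod.card, Fintype.card_fin]
    norm_num
  omega

section
variable {X : Type*} [Group X] (e : Fin 4 → X)

/-- the homomorphism `(ℤ/5)⁴ → X` -/
def fE (v : V4) : X := e 0 ^ (v 0).val * e 1 ^ (v 1).val * (e 2 ^ (v 2).val * e 3 ^ (v 3).val)

theorem pow_val_add {x : X} (hx : x ^ 5 = 1) (s t : ZMod 5) : x ^ (s + t).val = x ^ s.val * x ^ t.val := by
  rw [← pow_add, ZMod.val_add]
  conv_rhs => rw [← Nat.div_add_mod (s.val + t.val) 5, pow_add, pow_mul, hx, one_pow, one_mul]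

theorem fE_zero : fE e 0 = 1 := by simp [fE]

variable {e}

theorem fE_add (h5 : ∀ i, e i ^ 5 = 1) (hc : ∀ i j, e i * e j = e j * e i) (u v : V4) :
    fE e (u + v) = fE e u * fE e v := by
  have hp : ∀ (i j : Fin 4) (m k : ℕ), Commute (e i ^ m) (e j ^ k) := fun i j m k =>
    (show Commute (e i) (e j) from hc i j).pow_pow m k
  unfold fE
  simp only [Pi.add_apply]
  rw [pow_val_add (h5 0), pow_val_add (h5 1), pow_val_add (h5 2), pow_val_add (h5 3),
    (hp 0 1 _ _).mul_mul_mul_comm, (hp 2 3 _ _).mul_mul_mul_comm]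
  exact Commute.mul_mul_mul_comm (((hp 0 2 _ _).mul_right (hp 0 3 _ _)).mul_left ((hp 1 2 _ _).mul_right (hp 1 3 _ _))) _ _

theorem fE_neg (h5 : ∀ i, e i ^ 5 = 1) (hc : ∀ i j, e i * e j = e j * e i) (v : V4) : fE e (-v) = (fE e v)⁻¹ := by
  rw [eq_inv_iff_mul_eq_one, ← fE_add h5 hc, neg_add_cancel, fE_zero]

theorem fE_nsmul (h5 : ∀ i, e i ^ 5 = 1) (hc : ∀ i j, e i * e j = e j * e i) (n : ℕ) (v : V4) :
    fE e (n • v) = fE e v ^ n := by
  induction n with
  | zero => rw [zero_smul, fE_zero, pow_zero]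
  | succ n ih => rw [succ_nsmul, fE_add h5 hc, ih, pow_succ]

theorem smul_val (s : ZMod 5) (v : V4) : s • v = s.val • v := by
  ext k
  simp [Pi.smul_apply]

/-- the homomorphism `(ℤ/5)⁴ → X` -/
def hE (h5 : ∀ i, e i ^ 5 = 1) (hc : ∀ i j, e i * e j = e j * e i) : Multiplicative V4 →* X where
  toFun v := fE e v.toAdd
  map_one' := fE_zero e
  map_mul' _ _ := fE_add h5 hc _ _

/-- In a group: `L = ⟨a, b⟩` with `a² = b³ = (ab)⁵ = 1` is perfect. -/
theorem perfect_of {a b : X} (ha : a ^ 2 = 1) (hb : b ^ 3 = 1) (hab : (a * b) ^ 5 = 1) :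
    ⁅Subgroup.closure {a, b}, Subgroup.closure {a, b}⁆ = Subgroup.closure {a, b} := by
  set L := Subgroup.closure {a, b} with hL
  have haL : a ∈ L := Subgroup.subset_closure (by simp)
  have hbL : b ∈ L := Subgroup.subset_closure (by simp)
  set a' : L := ⟨a, haL⟩
  set b' : L := ⟨b, hbL⟩
  have ha' : a' ^ 2 = 1 := Subtype.ext ha
  have hb' : b' ^ 3 = 1 := Subtype.ext hb
  have hab' : (a' * b') ^ 5 = 1 := Subtype.ext hab
  have key : a' ∈ commutator L ∧ b' ∈ commutator L := by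
    rw [← Abelianization.ker_of, MonoidHom.mem_ker, MonoidHom.mem_ker]
    have h1 : (Abelianization.of a') ^ 2 = 1 := by rw [← map_pow, ha', map_one]
    have h2 : (Abelianization.of b') ^ 3 = 1 := by rw [← map_pow, hb', map_one]
    have h3 : (Abelianization.of a' * Abelianization.of b') ^ 5 = 1 := by rw [← map_mul, ← map_pow, hab', map_one]
    generalize Abelianization.of a' = x at *
    generalize Abelianization.of b' = y at *
    have h4 : x ^ 5 = x := by
      rw [show (5 : ℕ) = 2 + 2 + 1 from rfl, pow_add, pow_add, h1]; simp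
    have h5 : y ^ 5 = y ^ 2 := by
      rw [show (5 : ℕ) = 3 + 2 from rfl, pow_add, h2]; simp
    rw [mul_pow, h4, h5] at h3
    have h6 : x = y := by
      have : x * y ^ 2 * y = y := by rw [h3, one_mul]
      rw [mul_assoc, ← pow_succ, h2, mul_one] at this
      exact this
    subst h6
    have h7 : x = 1 := by
      have := h2
      rw [pow_succ, h1, one_mul] at this
      exact this
    exact ⟨h7, h7⟩
  have hmap : (commutator L).map L.subtype = ⁅L, L⁆ := by
    rw [commutator_def, Subgroup.map_commutator, ← MonoidHom.range_eq_map, Subgroup.range_subtype]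
  apply le_antisymm
  · rw [← hmap]
    rintro _ ⟨x, _, rfl⟩
    exact x.2
  · conv_lhs => rw [hL]
    rw [Subgroup.closure_le]
    rintro x (rfl | rfl)
    · rw [← hmap]
      exact ⟨a', key.1, rfl⟩
    · rw [← hmap]
      exact ⟨b', key.2, rfl⟩

/-- the `D₄`-relations from relations between generators -/
theorem d4_abs (a b n : Fin 4 → X) (ha : ∀ i, a i ^ 2 = 1) (hb : ∀ i, b i ^ 3 = 1) (hab : ∀ i, (a i * b i) ^ 5 = 1)
    (ha1 : ∀ i, a i ≠ 1) (hn : ∀ i, n i = b i * a i * b i * a i * b i * b i * a i * b i * a i)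
    (hn2 : ∀ i, n i ^ 2 = 1) (h5 : ∀ i, e i ^ 5 = 1) (hc : ∀ i j, e i * e j = e j * e i)
    (hinj : ∀ v, fE e v = 1 → v = 0) (hroot : ∀ i, fE e (rt i) = a i * b i)
    (hnr : ∀ i, n i * (a i * b i) * n i = (a i * b i)⁻¹)
    (hcomm : ∀ i, ∀ v, lam i v = 0 → a i * fE e v = fE e v * a i ∧ b i * fE e v = fE e v * b i) :
    D4Pre X fun i => Subgroup.closure {a i, b i} := by
  set f := hE h5 hc with hf
  have hfi : Function.Injective f := by
    rw [injective_iff_map_eq_one]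
    intro v hv
    exact hinj _ hv
  have hfE : ∀ v : V4, f (Multiplicative.ofAdd v) = fE e v := fun v => rfl
  have haL : ∀ i, a i ∈ Subgroup.closure {a i, b i} := fun i => Subgroup.subset_closure (by simp)
  have hbL : ∀ i, b i ∈ Subgroup.closure {a i, b i} := fun i => Subgroup.subset_closure (by simp)
  have hnL : ∀ i, n i ∈ Subgroup.closure {a i, b i} := by
    intro i
    rw [hn i]
    have h1 := haL i
    have h2 := hbL i
    exact mul_mem (mul_mem (mul_mem (mul_mem (mul_mem (mul_mem (mul_mem (mul_mem h2 h1) h2) h1) h2) h2) h1) h2) h1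
  have hni : ∀ i, (n i)⁻¹ = n i := fun i => by
    rw [inv_eq_iff_mul_eq_one, ← sq, hn2]
  -- `L i` centralises the kernel of `lam i`
  have hLc : ∀ i, ∀ x ∈ Subgroup.closure {a i, b i}, ∀ v, lam i v = 0 → x * fE e v = fE e v * x := by
    intro i x hx v hv
    have : Subgroup.closure {a i, b i} ≤ Subgroup.centralizer {fE e v} := by
      rw [Subgroup.closure_le]
      rintro y (rfl | rfl)
      · exact Subgroup.mem_centralizer_singleton_iff.2 (hcomm i v hv).1
      · exact Subgroup.mem_centralizer_singleton_iff.2 (hcomm i v hv).2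
    exact Subgroup.mem_centralizer_singleton_iff.1 (this hx)
  -- the action of `n i`
  have hact : ∀ i v, n i * fE e v = fE e (sR i v) * n i := by
    intro i v
    set t : ZMod 5 := 3 * lam i v with ht
    set w : V4 := v - t • rt i with hw
    have hrr : lam i (rt i) = 2 := lam_rt i
    have h5z : (5 : ZMod 5) = 0 := by decide
    have hlt : lam i (t • rt i) = 2 * t := by rw [lam_smul, hrr]; ring
    have hw0 : lam i w = 0 := by
      rw [hw, map_sub, hlt, ht]
      linear_combination (-lam i v) * h5z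
    have hv : v = t • rt i + w := by rw [hw]; abel
    have hs : sR i v = -(t • rt i) + w := by
      have : lam i v • rt i = t • rt i + t • rt i := by
        rw [← add_smul]
        congr 1
        rw [ht]
        linear_combination (-lam i v) * h5z
      unfold sR
      rw [this, hw]
      abel
    have hpw : n i * fE e (t • rt i) * n i = (fE e (t • rt i))⁻¹ := by
      rw [smul_val, fE_nsmul h5 hc, hroot]
      have h1 := hnr i
      have h2 : n i * (a i * b i) ^ t.val * (n i)⁻¹ = ((a i * b i)⁻¹) ^ t.val := by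
        rw [← conj_pow, hni, h1]
      rw [hni] at h2
      rw [h2, inv_pow]
    rw [hs, fE_add h5 hc, fE_neg h5 hc, ← hpw]
    conv_lhs => rw [hv, fE_add h5 hc]
    rw [mul_assoc _ (fE e w), ← hLc i _ (hnL i) w hw0, mul_assoc _ (n i) (n i * _), ← mul_assoc (n i) (n i) (fE e w),
      ← sq, hn2, one_mul, mul_assoc]
  have hact' : ∀ i j v, (n i * n j) * fE e v = fE e (sR i (sR j v)) * (n i * n j) := by
    intro i j v
    rw [mul_assoc, hact, ← mul_assoc, hact, mul_assoc]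
  have hpow : ∀ (k : ℕ) (i j : Fin 4) (v : V4),
      (n i * n j) ^ k * fE e v = fE e ((fun u => sR i (sR j u))^[k] v) * (n i * n j) ^ k := by
    intro k
    induction k with
    | zero => intro i j v; simp
    | succ k ih =>
      intro i j v
      rw [pow_succ, mul_assoc, hact', ← mul_assoc, ih, mul_assoc, Function.iterate_succ_apply]
  have hne : ∀ u v : V4, u ≠ v → fE e u ≠ fE e v := fun u v h h' => h (hfi h')
  refine ⟨f.range, fun i => ((lam i).ker.toSubgroup).map f, n, ?_, ?_, ?_, ?_, ?_, ?_, ?_, ?_, ?_, ?_, ?_, ?_, ?_, ?_⟩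
  · rw [← Nat.card_congr (MonoidHom.ofInjective hfi).toEquiv]
    show Nat.card V4 = 625
    rw [Nat.card_eq_fintype_card, Fintype.card_fun, ZMod.card, Fintype.card_fin]
    norm_num
  · rintro _ ⟨u, rfl⟩ _ ⟨v, rfl⟩
    rw [← map_mul, ← map_mul, mul_comm]
  · rintro i _ ⟨u, _, rfl⟩
    exact ⟨u, rfl⟩
  · intro i
    rw [Subgroup.card_map_of_injective hfi]
    exact card_ker i
  · exact fun i => perfect_of (ha i) (hb i) (hab i)
  · intro i h
    have := haL i
    rw [show Subgroup.closure {a i, b i} = ⊥ from h, Subgroup.mem_bot] at this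
    exact ha1 i this
  · rintro i x hx _ ⟨v, hv, rfl⟩
    exact hLc i x hx v.toAdd hv
  · exact hnL
  · rintro i _ ⟨v, rfl⟩
    refine ⟨Multiplicative.ofAdd (sR i v.toAdd), ?_⟩
    show fE e (sR i v.toAdd) = n i * fE e v.toAdd * (n i)⁻¹
    rw [hact, mul_inv_cancel_right]
  · intro i x _
    rw [hn2, one_mul, mul_one]
  · intro i
    refine ⟨fE e ![0, 1, 2, 4], ⟨_, rfl⟩, fun h => ?_⟩
    rw [hact] at h
    exact hne _ _ (sR_ne i) (mul_right_cancel h)
  · intro i j hij
    refine ⟨fE e ![0, 1, 2, 4], ⟨_, rfl⟩, fun h => ?_⟩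
    rw [hact'] at h
    exact hne _ _ (sR_ne2 i j hij) (mul_right_cancel h)
  · rintro i j hij _ ⟨v, rfl⟩
    show (n i * n j) ^ 3 * fE e v.toAdd = fE e v.toAdd * (n i * n j) ^ 3
    rw [hpow 3 i j]
    exact congrArg (fun u => fE e u * (n i * n j) ^ 3) (sR_adj i j hij v.toAdd)
  · rintro i j hij hij' _ ⟨v, rfl⟩
    show (n i * n j) ^ 2 * fE e v.toAdd = fE e v.toAdd * (n i * n j) ^ 2
    rw [hpow 2 i j]
    exact congrArg (fun u => fE e u * (n i * n j) ^ 2) (sR_nadj i j hij hij' v.toAdd)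

end

end Cfsg.Agent.H893.EE
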