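import Cfsg.Agent.H893.EE.F4Code

/-!
# The elements `a_i, b_i, e_i, n_i` of `Ω₈⁺(4)` (S3384, task T4a)

`rA, rB, rE, rN` : the row codes of the matrices of `H865/EE/OData.lean`. `Om F` : an element `ω` with `ω² = ω + 1` of a
field of characteristic 2; `elA, elB, elE, elN` : the isometries; they lie in `Ω` (`omA, omB, omE, omN`).
-/

set_option autoImplicit false

namespace Cfsg.Agent.H893.EE

open Cfsg.Agent.H865.EE Cfsg.Agent.H865.EE.OD Matrix

/-- rows of `a_i` -/
def rA : Fin 4 → List ℕ := ![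
  [1, 5, 16, 64, 1280, 1024, 4096, 16384],
  [30841, 54011, 34721, 11638, 40348, 19043, 61385, 27958],
  [1, 4, 16, 80, 256, 1024, 20480, 16384],
  [1, 4, 16, 64, 256, 1024, 4160, 16400]]

/-- rows of the transpose of `a_i` -/
def tA : Fin 4 → List ℕ := ![
  [5, 4, 16, 64, 256, 1280, 4096, 16384],
  [40093, 25418, 51695, 13933, 31096, 64466, 41351, 30253],
  [1, 4, 80, 64, 256, 1024, 4096, 20480],
  [1, 4, 16400, 4160, 256, 1024, 4096, 16384]]

/-- rows of `b_i` -/
def rB : Fin 4 → List ℕ := ![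
  [8, 7, 16, 64, 3328, 512, 4096, 16384],
  [25182, 24397, 9771, 62862, 45733, 59628, 29018, 46542],
  [1, 4, 128, 112, 256, 1024, 53248, 8192],
  [1, 4, 32768, 8192, 256, 1024, 4288, 16432]]

/-- rows of the transpose of `b_i` -/
def tB : Fin 4 → List ℕ := ![
  [12, 6, 16, 64, 2304, 768, 4096, 16384],
  [41398, 60911, 6689, 56965, 21102, 18524, 64486, 40645],
  [1, 4, 192, 96, 256, 1024, 36864, 12288],
  [1, 4, 49152, 12288, 256, 1024, 4224, 16416]]

/-- rows of the inverse of `b_i` -/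
def iB : Fin 4 → List ℕ := ![
  [9, 3, 16, 64, 3072, 1536, 4096, 16384],
  [28242, 23624, 59131, 50590, 46753, 61421, 8474, 34270],
  [1, 4, 144, 48, 256, 1024, 49152, 24576],
  [1, 4, 32784, 8256, 256, 1024, 192, 48]]

/-- rows of `e_i` -/
def rE : Fin 4 → List ℕ := ![
  [3342, 2317, 16, 64, 2315, 3337, 4096, 16384],
  [1295, 2825, 16, 64, 2823, 1290, 4096, 16384],
  [1, 4, 53472, 37072, 256, 1024, 37040, 53392],
  [1, 4, 20720, 45200, 256, 1024, 45168, 20640]]

/-- rows of the transpose of `e_i` -/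
def tE : Fin 4 → List ℕ := ![
  [1798, 2575, 16, 64, 1285, 3595, 4096, 16384],
  [2823, 2315, 16, 64, 1805, 1545, 4096, 16384],
  [1, 4, 28768, 41200, 256, 1024, 20560, 57520],
  [1, 4, 45168, 37040, 256, 1024, 28880, 24720]]

/-- rows of the inverse of `e_i` -/
def iE : Fin 4 → List ℕ := ![
  [1285, 2830, 16, 64, 1543, 3850, 4096, 16384],
  [3335, 2310, 16, 64, 1803, 2825, 4096, 16384],
  [1, 4, 20560, 45280, 256, 1024, 24688, 61600],
  [1, 4, 53360, 36960, 256, 1024, 28848, 45200]]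

/-- rows of `n_i` -/
def rN : Fin 4 → List ℕ := ![
  [5, 4, 16, 64, 256, 1280, 4096, 16384],
  [64717, 13073, 53193, 13141, 21828, 25425, 17476, 29461],
  [1, 4, 80, 64, 256, 1024, 4096, 20480],
  [1, 4, 16400, 4160, 256, 1024, 4096, 16384]]


theorem chkA (i : Fin 4) : chk (cA i) (rA i) = true := by revert i; decide +kernel
theorem chkB (i : Fin 4) : chk (cB i) (rB i) = true := by revert i; decide +kernel
theorem chkE (i : Fin 4) : chk (cE i) (rE i) = true := by revert i; decide +kernel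
theorem chkN (i : Fin 4) : chk (cN i) (rN i) = true := by revert i; decide +kernel
theorem okA (i : Fin 4) : okE (rA i) (rA i) (tA i) = true := by revert i; decide +kernel
theorem okB' (i : Fin 4) : okE (rB i) (iB i) (tB i) = true := by revert i; decide +kernel
theorem okE' (i : Fin 4) : okE (rE i) (iE i) (tE i) = true := by revert i; decide +kernel

/-- an element `ω` with `ω² = ω + 1` -/
structure Om (F : Type*) [Field F] where
  /-- the element -/
  ω : F
  two : ∀ x : F, x + x = 0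
  sq : ω * ω = ω + 1
  ne0 : ω ≠ 0
  ne1 : ω ≠ 1
  ne11 : ω + 1 ≠ 0

theorem exists_Om {F : Type*} [Field F] [Fintype F] (hF : Fintype.card F = 4) : Nonempty (Om F) := by
  obtain ⟨h2, ω, h3, h4, h5, h6⟩ := exists_omega hF
  exact ⟨⟨ω, h2, h3, h4, h5, h6⟩⟩

section
variable {F : Type*} [Field F]

/-- the orthogonal group -/
abbrev Iso (F : Type*) [Field F] : Type _ := ↥(Cfsg.isometryGroup F (Cfsg.quadFormPlus 4 F))

/-- the matrix of an isometry -/
def co (x : Iso F) : Matrix (Fin 4 ⊕ Fin 4) (Fin 4 ⊕ Fin 4) F :=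
  ((x : Matrix.GeneralLinearGroup (Fin 4 ⊕ Fin 4) F) : Matrix (Fin 4 ⊕ Fin 4) (Fin 4 ⊕ Fin 4) F)

theorem co_mul (x y : Iso F) : co (x * y) = co x * co y := rfl

theorem co_one : co (1 : Iso F) = 1 := rfl

theorem co_inj {x y : Iso F} (h : co x = co y) : x = y := iso_ext h

/-- `x` has the matrix with codes `r` -/
def HasC (O : Om F) (x : Iso F) (r : List ℕ) : Prop := co x = bm O.ω r ∧ r.length = 8

theorem HasC.mul {O : Om F} {x y : Iso F} {r s : List ℕ} (hx : HasC O x r) (hy : HasC O y s) :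
    HasC O (x * y) (mulB r s) :=
  ⟨by rw [co_mul, hx.1, hy.1, bm_mul O.two O.sq _ _ hy.2], by unfold mulB; rw [List.length_map]; exact hx.2⟩

theorem HasC.one (O : Om F) : HasC O (1 : Iso F) oneB := ⟨by rw [co_one, bm_one], rfl⟩

theorem HasC.eq {O : Om F} {x y : Iso F} {r s : List ℕ} (hx : HasC O x r) (hy : HasC O y s) (h : r = s) : x = y :=
  co_inj (by rw [hx.1, hy.1, h])

/-- powers -/
def powB (r : List ℕ) : ℕ → List ℕ
  | 0 => oneB
  | n + 1 => mulB (powB r n) r

theorem HasC.pow {O : Om F} {x : Iso F} {r : List ℕ} (hx : HasC O x r) (n : ℕ) : HasC O (x ^ n) (powB r n) := by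
  induction n with
  | zero => exact HasC.one O
  | succ n ih => rw [pow_succ]; exact ih.mul hx

/-- bounded lists of codes -/
theorem HasC.ne {O : Om F} {x y : Iso F} {r s : List ℕ} (hx : HasC O x r) (hy : HasC O y s)
    (h : (okB r && okB s && decide (r ≠ s)) = true) : x ≠ y := fun he =>
  bm_ne O.ne0 O.ne1 O.ne11 h (by rw [← hx.1, ← hy.1, he])

variable (O : Om F)

/-- `a_i` -/
def elA (i : Fin 4) : Iso F := isoE O.two O.sq (okA i)

/-- `b_i` -/
def elB (i : Fin 4) : Iso F := isoE O.two O.sq (okB' i)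

/-- `e_i` -/
def elE (i : Fin 4) : Iso F := isoE O.two O.sq (okE' i)

theorem lenA (i : Fin 4) : (rA i).length = 8 := by revert i; decide
theorem lenB (i : Fin 4) : (rB i).length = 8 := by revert i; decide
theorem lenE (i : Fin 4) : (rE i).length = 8 := by revert i; decide

theorem hasA (i : Fin 4) : HasC O (elA O i) (rA i) := ⟨rfl, lenA i⟩
theorem hasB (i : Fin 4) : HasC O (elB O i) (rB i) := ⟨rfl, lenB i⟩
theorem hasE (i : Fin 4) : HasC O (elE O i) (rE i) := ⟨rfl, lenE i⟩

theorem coA (i : Fin 4) : co (elA O i) = mat O.ω (cA i) := by rw [mat_eq O.ω (chkA i)]; rfl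
theorem coB (i : Fin 4) : co (elB O i) = mat O.ω (cB i) := by rw [mat_eq O.ω (chkB i)]; rfl
theorem coE (i : Fin 4) : co (elE O i) = mat O.ω (cE i) := by rw [mat_eq O.ω (chkE i)]; rfl

/-- `n_i` -/
def elN (i : Fin 4) : Iso F :=
  elB O i * elA O i * elB O i * elA O i * elB O i * elB O i * elA O i * elB O i * elA O i

theorem wordN (i : Fin 4) : mulB (mulB (mulB (mulB (mulB (mulB (mulB (mulB (rB i) (rA i)) (rB i)) (rA i)) (rB i))
    (rB i)) (rA i)) (rB i)) (rA i) = rN i := by revert i; decide +kernel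

theorem hasN (i : Fin 4) : HasC O (elN O i) (rN i) := by
  rw [← wordN i]
  exact ((((((((hasB O i).mul (hasA O i)).mul (hasB O i)).mul (hasA O i)).mul (hasB O i)).mul (hasB O i)).mul
    (hasA O i)).mul (hasB O i)).mul (hasA O i)

/-! ### the relations -/

theorem A_sq (i : Fin 4) : elA O i ^ 2 = 1 :=
  ((hasA O i).pow 2).eq (HasC.one O) (by revert i; decide +kernel)

theorem B_cube (i : Fin 4) : elB O i ^ 3 = 1 :=
  ((hasB O i).pow 3).eq (HasC.one O) (by revert i; decide +kernel)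

theorem AB_five (i : Fin 4) : (elA O i * elB O i) ^ 5 = 1 :=
  (((hasA O i).mul (hasB O i)).pow 5).eq (HasC.one O) (by revert i; decide +kernel)

theorem A_ne (i : Fin 4) : elA O i ≠ 1 := (hasA O i).ne (HasC.one O) (by revert i; decide +kernel)

theorem N_sq (i : Fin 4) : elN O i ^ 2 = 1 :=
  ((hasN O i).pow 2).eq (HasC.one O) (by revert i; decide +kernel)

theorem E_five (i : Fin 4) : elE O i ^ 5 = 1 :=
  ((hasE O i).pow 5).eq (HasC.one O) (by revert i; decide +kernel)

theorem E_comm (i j : Fin 4) : elE O i * elE O j = elE O j * elE O i :=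
  ((hasE O i).mul (hasE O j)).eq ((hasE O j).mul (hasE O i)) (by revert i j; decide +kernel)

/-- in an arbitrary group: `a² = b³ = (ab)⁵ = 1` implies `a, b ∈ G'` -/
theorem mem_commutator {G : Type*} [Group G] {a b : G} (ha : a ^ 2 = 1) (hb : b ^ 3 = 1) (hab : (a * b) ^ 5 = 1) :
    a ∈ commutator G ∧ b ∈ commutator G := by
  rw [← Abelianization.ker_of, MonoidHom.mem_ker, MonoidHom.mem_ker]
  have h1 : (Abelianization.of a) ^ 2 = 1 := by rw [← map_pow, ha, map_one]
  have h2 : (Abelianization.of b) ^ 3 = 1 := by rw [← map_pow, hb, map_one]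
  have h3 : (Abelianization.of a * Abelianization.of b) ^ 5 = 1 := by rw [← map_mul, ← map_pow, hab, map_one]
  generalize Abelianization.of a = x at *
  generalize Abelianization.of b = y at *
  have h4 : x ^ 5 = x := by
    rw [show (5 : ℕ) = 2 + 2 + 1 from rfl, pow_add, pow_add, h1]; simp
  have h5 : y ^ 5 = y ^ 2 := by
    rw [show (5 : ℕ) = 3 + 2 from rfl, pow_add, h2]; simp
  rw [mul_pow, h4, h5] at h3
  have h6 : x = y := by
    have : x * y ^ 2 * y = y := by rw [h3, one_mul]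
    rw [mul_assoc, ← pow_succ, h2, mul_one] at this
    exact this
  subst h6
  have h7 : x = 1 := by
    have := h2
    rw [pow_succ, h1, one_mul] at this
    exact this
  exact ⟨h7, h7⟩

theorem memA (i : Fin 4) : elA O i ∈ Cfsg.Omega F (Cfsg.quadFormPlus 4 F) :=
  (mem_commutator (A_sq O i) (B_cube O i) (AB_five O i)).1

theorem memB (i : Fin 4) : elB O i ∈ Cfsg.Omega F (Cfsg.quadFormPlus 4 F) :=
  (mem_commutator (A_sq O i) (B_cube O i) (AB_five O i)).2

theorem memN (i : Fin 4) : elN O i ∈ Cfsg.Omega F (Cfsg.quadFormPlus 4 F) := by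
  have ha := memA O i
  have hb := memB O i
  exact mul_mem (mul_mem (mul_mem (mul_mem (mul_mem (mul_mem (mul_mem (mul_mem hb ha) hb) ha) hb) hb) ha) hb) ha

theorem E2_eq : elE O 2 = (elA O 2 * elB O 2 * (elA O 3 * elB O 3)) ^ 3 :=
  (hasE O 2).eq ((((hasA O 2).mul (hasB O 2)).mul ((hasA O 3).mul (hasB O 3))).pow 3) (by decide +kernel)

theorem AB0 : elA O 0 * elB O 0 * elE O 1 = elE O 0 :=
  (((hasA O 0).mul (hasB O 0)).mul (hasE O 1)).eq (hasE O 0) (by decide +kernel)

theorem AB1 : elA O 1 * elB O 1 * elE O 2 = elE O 1 :=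
  (((hasA O 1).mul (hasB O 1)).mul (hasE O 2)).eq (hasE O 1) (by decide +kernel)

theorem AB2 : elA O 2 * elB O 2 * elE O 3 = elE O 2 :=
  (((hasA O 2).mul (hasB O 2)).mul (hasE O 3)).eq (hasE O 2) (by decide +kernel)

theorem AB3 : elA O 3 * elB O 3 = elE O 2 * elE O 3 :=
  ((hasA O 3).mul (hasB O 3)).eq ((hasE O 2).mul (hasE O 3)) (by decide +kernel)

theorem memE (i : Fin 4) : elE O i ∈ Cfsg.Omega F (Cfsg.quadFormPlus 4 F) := by
  have h2 : elE O 2 ∈ Cfsg.Omega F (Cfsg.quadFormPlus 4 F) := by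
    rw [E2_eq]
    exact pow_mem (mul_mem (mul_mem (memA O 2) (memB O 2)) (mul_mem (memA O 3) (memB O 3))) 3
  have h3 : elE O 3 ∈ Cfsg.Omega F (Cfsg.quadFormPlus 4 F) := by
    have := AB2 O
    rw [← eq_inv_mul_iff_mul_eq] at this
    rw [this]
    exact mul_mem (inv_mem (mul_mem (memA O 2) (memB O 2))) h2
  have h1 : elE O 1 ∈ Cfsg.Omega F (Cfsg.quadFormPlus 4 F) := by
    rw [← AB1]
    exact mul_mem (mul_mem (memA O 1) (memB O 1)) h2
  have h0 : elE O 0 ∈ Cfsg.Omega F (Cfsg.quadFormPlus 4 F) := by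
    rw [← AB0]
    exact mul_mem (mul_mem (memA O 0) (memB O 0)) h1
  fin_cases i
  · exact h0
  · exact h1
  · exact h2
  · exact h3

end

end Cfsg.Agent.H893.EE
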