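import Cfsg.Agent.H865.EE.Defs
import Cfsg.Agent.H865.EE.OData
import Cfsg.Agent.H986.EqD.OdVal

/-!
# Arithmetic of `8 × 8` matrices over the field with four elements, evaluated by the kernel

A row of eight elements of `F = {0, 1, ω, ω + 1}` is a natural number below `4 ^ 8` (the digit `j` in base 4 is the code
of the entry `j`); a matrix is a list of eight rows. `bm ω rs` is the matrix; `bm_mul` : products are `mulB`
(evaluated by `decide +kernel`), `mat_eq` : `mat ω c = bm ω rs` by the check `chk c rs`, `bm_ne` : inequality.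
-/

set_option autoImplicit false

namespace Cfsg.Agent.H893.EE

open Cfsg.Agent.H865.EE Cfsg.Agent.H865.EE.OD Matrix

section
variable {F : Type*} [Field F]

/-- the entry `j` of a row code -/
def bv (ω : F) (r j : ℕ) : F := (if r.testBit (2 * j) then 1 else 0) + (if r.testBit (2 * j + 1) then ω else 0)

/-- the matrix of a list of row codes -/
def bm (ω : F) (rs : List ℕ) : Matrix (Fin 4 ⊕ Fin 4) (Fin 4 ⊕ Fin 4) F :=
  Matrix.of fun i j => bv ω (rs.getD (ix i) 0) (ix j)

/-- multiplication of a row by `ω` -/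
def mw (r : ℕ) : ℕ := ((r &&& 43690) >>> 1) ^^^ ((r &&& 43690) ^^^ ((r &&& 21845) <<< 1))

/-- row times matrix -/
def vm : ℕ → List ℕ → ℕ
  | _, [] => 0
  | r, s :: ss => (cond (r.testBit 0) s 0) ^^^ ((cond (r.testBit 1) (mw s) 0) ^^^ vm (r >>> 2) ss)

/-- the product of two matrices -/
def mulB (rs ss : List ℕ) : List ℕ := rs.map fun r => vm r ss

/-- the identity matrix -/
def oneB : List ℕ := [1, 4, 16, 64, 256, 1024, 4096, 16384]

theorem ix_lt (i : Fin 4 ⊕ Fin 4) : ix i < 8 := by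
  rcases i with i | i <;> simp only [ix] <;> omega

theorem ix_inj {i j : Fin 4 ⊕ Fin 4} (h : ix i = ix j) : i = j := by
  rcases i with i | i <;> rcases j with j | j <;> simp only [ix] at h
  · rw [Fin.ext h]
  · omega
  · omega
  · rw [Fin.ext (by omega : (i : ℕ) = j)]

theorem exists_ix {k : ℕ} (hk : k < 8) : ∃ i : Fin 4 ⊕ Fin 4, ix i = k := by
  by_cases h : k < 4
  · exact ⟨.inl ⟨k, h⟩, rfl⟩
  · exact ⟨.inr ⟨k - 4, by omega⟩, by simp only [ix]; omega⟩

theorem bv_zero (ω : F) (j : ℕ) : bv ω 0 j = 0 := by simp [bv]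

theorem ite_xor (h2 : ∀ x : F, x + x = 0) (a b : Bool) (x : F) :
    (if (a ^^ b) = true then x else 0) = (if a = true then x else 0) + (if b = true then x else 0) := by
  cases a <;> cases b <;> simp [h2]

theorem bv_xor (h2 : ∀ x : F, x + x = 0) (ω : F) (r s j : ℕ) : bv ω (r ^^^ s) j = bv ω r j + bv ω s j := by
  unfold bv
  rw [Nat.testBit_xor, Nat.testBit_xor, ite_xor h2, ite_xor h2]
  ring

theorem mask_a (i : ℕ) : (43690 : ℕ).testBit i = (decide (i < 16) && decide (i % 2 = 1)) := by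
  by_cases h : i < 16
  · interval_cases i <;> decide
  · rw [Nat.testBit_lt_two_pow (lt_of_lt_of_le (by norm_num : (43690 : ℕ) < 2 ^ 16) (Nat.pow_le_pow_right (by norm_num) (by omega)))]
    simp [h]

theorem mask_b (i : ℕ) : (21845 : ℕ).testBit i = (decide (i < 16) && decide (i % 2 = 0)) := by
  by_cases h : i < 16
  · interval_cases i <;> decide
  · rw [Nat.testBit_lt_two_pow (lt_of_lt_of_le (by norm_num : (21845 : ℕ) < 2 ^ 16) (Nat.pow_le_pow_right (by norm_num) (by omega)))]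
    simp [h]

theorem mw_even (r : ℕ) {j : ℕ} (hj : j < 8) : (mw r).testBit (2 * j) = r.testBit (2 * j + 1) := by
  unfold mw
  rw [Nat.testBit_xor, Nat.testBit_xor, Nat.testBit_shiftRight, Nat.testBit_and, Nat.testBit_and,
    Nat.testBit_shiftLeft, Nat.testBit_and, mask_a, mask_a, mask_b]
  have e1 : decide (1 + 2 * j < 16) = true := by simp; omega
  have e2 : decide ((1 + 2 * j) % 2 = 1) = true := by simp
  have e3 : decide (2 * j % 2 = 1) = false := by simp
  rw [e1, e2, e3]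
  by_cases h0 : j = 0
  · subst h0
    simp
  · have e4 : decide ((2 * j - 1) % 2 = 0) = false := by simp; omega
    rw [e4]
    simp [Nat.add_comm]

theorem mw_odd (r : ℕ) {j : ℕ} (hj : j < 8) :
    (mw r).testBit (2 * j + 1) = (r.testBit (2 * j + 1) ^^ r.testBit (2 * j)) := by
  unfold mw
  rw [Nat.testBit_xor, Nat.testBit_xor, Nat.testBit_shiftRight, Nat.testBit_and, Nat.testBit_and,
    Nat.testBit_shiftLeft, Nat.testBit_and, mask_a, mask_a, mask_b]
  have e1 : decide (2 * j + 1 < 16) = true := by simp; omega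
  have e2 : decide ((1 + (2 * j + 1)) % 2 = 1) = false := by simp; omega
  have e3 : decide ((2 * j + 1) % 2 = 1) = true := by simp
  have e4 : decide ((2 * j + 1 - 1) % 2 = 0) = true := by simp
  have e5 : decide (2 * j + 1 - 1 < 16) = true := by simp; omega
  have e6 : decide (2 * j + 1 ≥ 1) = true := by simp
  rw [e1, e2, e3, e4, e5, e6]
  simp

/-- `mw` is multiplication by `ω` -/
theorem bv_mw (h2 : ∀ x : F, x + x = 0) {ω : F} (hω : ω * ω = ω + 1) (r : ℕ) {j : ℕ} (hj : j < 8) :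
    bv ω (mw r) j = ω * bv ω r j := by
  unfold bv
  rw [mw_even r hj, mw_odd r hj, ite_xor h2]
  cases r.testBit (2 * j) <;> cases r.testBit (2 * j + 1) <;> simp [hω, mul_add]
  · ring
  · ring

theorem bv_cond (ω : F) (b : Bool) (r j : ℕ) : bv ω (cond b r 0) j = (if b = true then 1 else 0) * bv ω r j := by
  cases b
  · simp [bv_zero]
  · simp

theorem bv_vm (h2 : ∀ x : F, x + x = 0) {ω : F} (hω : ω * ω = ω + 1) (ss : List ℕ) :
    ∀ (r : ℕ) {j : ℕ}, j < 8 →
      bv ω (vm r ss) j = ∑ l ∈ Finset.range ss.length, bv ω r l * bv ω (ss.getD l 0) j := by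
  induction ss with
  | nil => intro r j _; simp [vm, bv_zero]
  | cons s ss ih =>
    intro r j hj
    rw [vm, bv_xor h2, bv_xor h2, bv_cond, bv_cond, bv_mw h2 hω _ hj, ih _ hj, List.length_cons, Finset.sum_range_succ']
    have e : ∀ l, bv ω (r >>> 2) l = bv ω r (l + 1) := by
      intro l
      unfold bv
      rw [Nat.testBit_shiftRight, Nat.testBit_shiftRight, show 2 + 2 * l = 2 * (l + 1) by ring,
        show 2 + (2 * l + 1) = 2 * (l + 1) + 1 by ring]
    have e' : bv ω r 0 = (if r.testBit 0 = true then 1 else 0) + (if r.testBit 1 = true then 1 else 0) * ω := by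
      unfold bv
      cases r.testBit (2 * 0 + 1) <;> simp_all
    simp only [e, List.getD_cons_succ, List.getD_cons_zero, e']
    ring

theorem vm_zero (ss : List ℕ) : vm 0 ss = 0 := by
  induction ss with
  | nil => rfl
  | cons s ss ih => simp [vm, ih]

theorem sum_ix {M : Type*} [AddCommMonoid M] (f : ℕ → M) : ∑ l ∈ Finset.range 8, f l = ∑ i : Fin 4 ⊕ Fin 4, f (ix i) := by
  rw [Fintype.sum_sum_type, Fin.sum_univ_four, Fin.sum_univ_four]
  simp only [Finset.sum_range_succ, Finset.sum_range_zero, zero_add, ix, add_assoc]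
  rfl

/-- products of matrices of codes -/
theorem bm_mul (h2 : ∀ x : F, x + x = 0) {ω : F} (hω : ω * ω = ω + 1) (rs ss : List ℕ) (hs : ss.length = 8) :
    bm ω rs * bm ω ss = bm ω (mulB rs ss) := by
  ext i j
  rw [Matrix.mul_apply]
  show ∑ l, bv ω (rs.getD (ix i) 0) (ix l) * bv ω (ss.getD (ix l) 0) (ix j) = bv ω ((mulB rs ss).getD (ix i) 0) (ix j)
  have : (mulB rs ss).getD (ix i) 0 = vm (rs.getD (ix i) 0) ss := by
    unfold mulB
    have h := List.getD_map (l := rs) (n := ix i) (d := 0) (fun r => vm r ss)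
    simp only [vm_zero] at h
    exact h
  rw [this, bv_vm h2 hω ss _ (ix_lt j), hs, sum_ix fun l => bv ω (rs.getD (ix i) 0) l * bv ω (ss.getD l 0) (ix j)]

theorem bm_one (ω : F) : bm ω oneB = 1 := by
  ext i j
  show bv ω (oneB.getD (ix i) 0) (ix j) = _
  have key : ∀ k < 8, ∀ l < 8, (oneB.getD k 0).testBit (2 * l) = decide (k = l) ∧
      (oneB.getD k 0).testBit (2 * l + 1) = false := by decide +kernel
  obtain ⟨h1, h2⟩ := key _ (ix_lt i) _ (ix_lt j)
  unfold bv
  rw [h1, h2, Matrix.one_apply]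
  by_cases h : i = j
  · subst h; simp
  · have : ix i ≠ ix j := fun h' => h (ix_inj h')
    simp [h, this]

/-- the check that the code list `c` has the rows `rs` -/
def chk (c rs : List ℕ) : Bool :=
  (List.range 8).all fun i => (List.range 8).all fun j => decide (c.getD (8 * i + j) 0 = ((rs.getD i 0) >>> (2 * j)) % 4)

theorem val_eq (ω : F) (r j : ℕ) : val ω ((r >>> (2 * j)) % 4) = bv ω r j := by
  have e1 : r.testBit (2 * j) = ((r >>> (2 * j)) % 4).testBit 0 := by
    rw [show (4 : ℕ) = 2 ^ 2 by norm_num, Nat.testBit_mod_two_pow, Nat.testBit_shiftRight]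
    simp
  have e2 : r.testBit (2 * j + 1) = ((r >>> (2 * j)) % 4).testBit 1 := by
    rw [show (4 : ℕ) = 2 ^ 2 by norm_num, Nat.testBit_mod_two_pow, Nat.testBit_shiftRight]
    simp
  unfold bv
  rw [e1, e2]
  have h4 : (r >>> (2 * j)) % 4 < 4 := Nat.mod_lt _ (by norm_num)
  generalize (r >>> (2 * j)) % 4 = k at h4
  have a10 : (1 : ℕ).testBit 0 = true := by decide
  have a11 : (1 : ℕ).testBit 1 = false := by decide
  have a20 : (2 : ℕ).testBit 0 = false := by decide
  have a21 : (2 : ℕ).testBit 1 = true := by decide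
  have a30 : (3 : ℕ).testBit 0 = true := by decide
  have a31 : (3 : ℕ).testBit 1 = true := by decide
  interval_cases k
  · simp [val]
  · rw [a10, a11]; simp [val]
  · rw [a20, a21]; simp [val]
  · rw [a30, a31]; simp [val, add_comm]

/-- from the list of 64 codes to the list of rows -/
theorem mat_eq (ω : F) {c rs : List ℕ} (h : chk c rs = true) : mat ω c = bm ω rs := by
  unfold chk at h
  rw [List.all_eq_true] at h
  ext i j
  have h1 := h (ix i) (List.mem_range.2 (ix_lt i))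
  rw [List.all_eq_true] at h1
  have h2 := h1 (ix j) (List.mem_range.2 (ix_lt j))
  rw [decide_eq_true_eq] at h2
  show val ω (c.getD (8 * ix i + ix j) 0) = bv ω (rs.getD (ix i) 0) (ix j)
  rw [h2, val_eq]

theorem bv_inj_aux {ω : F} (h0 : ω ≠ 0) (h1 : ω ≠ 1) (h11 : ω + 1 ≠ 0) (a b c d : Bool)
    (h : ((if a = true then 1 else 0) + (if b = true then ω else 0) : F) =
      (if c = true then 1 else 0) + (if d = true then ω else 0)) : a = c ∧ b = d := by
  have h3 : (1 : F) + ω ≠ 0 := by rwa [add_comm]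
  revert h
  cases a <;> cases b <;> cases c <;> cases d <;> simp [h0, h1, h3, h0.symm, h1.symm, h3.symm]

/-- the entries determine the bits -/
theorem bv_inj {ω : F} (h0 : ω ≠ 0) (h1 : ω ≠ 1) (h11 : ω + 1 ≠ 0) {r s i j : ℕ} (h : bv ω r i = bv ω s j) :
    r.testBit (2 * i) = s.testBit (2 * j) ∧ r.testBit (2 * i + 1) = s.testBit (2 * j + 1) :=
  bv_inj_aux h0 h1 h11 _ _ _ _ h

/-- matrices of codes are equal only if the (reduced) codes are -/
theorem bm_inj {ω : F} (h0 : ω ≠ 0) (h1 : ω ≠ 1) (h11 : ω + 1 ≠ 0) {rs ss : List ℕ} (h : bm ω rs = bm ω ss)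
    (hr : rs.length = 8) (hs : ss.length = 8) (hr' : ∀ r ∈ rs, r < 65536) (hs' : ∀ r ∈ ss, r < 65536) : rs = ss := by
  apply List.ext_getElem (by rw [hr, hs])
  intro k hk hk'
  obtain ⟨i, hi⟩ := exists_ix (k := k) (by omega)
  apply Nat.eq_of_testBit_eq
  intro l
  by_cases hl : l < 16
  · obtain ⟨j, hj⟩ := exists_ix (k := l / 2) (by omega)
    have h2 := congrFun (congrFun h i) j
    have h3 : bv ω (rs.getD (ix i) 0) (ix j) = bv ω (ss.getD (ix i) 0) (ix j) := h2
    obtain ⟨h4, h5⟩ := bv_inj h0 h1 h11 h3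
    rw [hi, hj, List.getD_eq_getElem _ _ hk, List.getD_eq_getElem _ _ hk'] at h4 h5
    rcases Nat.mod_two_eq_zero_or_one l with hm | hm
    · rwa [show 2 * (l / 2) = l by omega] at h4
    · rwa [show 2 * (l / 2) + 1 = l by omega] at h5
  · have h16 : (65536 : ℕ) = 2 ^ 16 := by norm_num
    have e : ∀ x < 65536, Nat.testBit x l = false := fun x hx =>
      Nat.testBit_lt_two_pow (hx.trans_le (h16.le.trans (Nat.pow_le_pow_right (by norm_num) (by omega))))
    rw [e _ (hr' _ (List.getElem_mem hk)), e _ (hs' _ (List.getElem_mem hk'))]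

/-- the check for `bm_inj` -/
def okB (rs : List ℕ) : Bool := decide (rs.length = 8) && rs.all fun r => decide (r < 65536)

theorem bm_ne {ω : F} (h0 : ω ≠ 0) (h1 : ω ≠ 1) (h11 : ω + 1 ≠ 0) {rs ss : List ℕ}
    (h : (okB rs && okB ss && decide (rs ≠ ss)) = true) : bm ω rs ≠ bm ω ss := by
  unfold okB at h
  simp only [Bool.and_eq_true, decide_eq_true_eq, List.all_eq_true] at h
  obtain ⟨⟨⟨h2, h3⟩, h4, h5⟩, h6⟩ := h
  exact fun he => h6 (bm_inj h0 h1 h11 he h2 h4 h3 h5)

/-- the check that `ts` is the transpose of `rs` -/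
def isTr (rs ts : List ℕ) : Bool :=
  (List.range 8).all fun i => (List.range 8).all fun j =>
    decide (((ts.getD j 0) >>> (2 * i)) % 4 = ((rs.getD i 0) >>> (2 * j)) % 4)

theorem bm_tr (ω : F) {rs ts : List ℕ} (h : isTr rs ts = true) : (bm ω rs)ᵀ = bm ω ts := by
  unfold isTr at h
  rw [List.all_eq_true] at h
  ext j i
  have h1 := h (ix i) (List.mem_range.2 (ix_lt i))
  rw [List.all_eq_true] at h1
  have h2 := h1 (ix j) (List.mem_range.2 (ix_lt j))
  rw [decide_eq_true_eq] at h2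
  show bv ω (rs.getD (ix i) 0) (ix j) = bv ω (ts.getD (ix j) 0) (ix i)
  rw [← val_eq, ← val_eq, h2]

/-- sums of matrices of codes -/
def addB (rs ss : List ℕ) : List ℕ := List.zipWith (fun r s => r ^^^ s) rs ss

theorem bm_add (h2 : ∀ x : F, x + x = 0) (ω : F) {rs ss : List ℕ} (hr : rs.length = 8) (hs : ss.length = 8) :
    bm ω rs + bm ω ss = bm ω (addB rs ss) := by
  ext i j
  show bv ω (rs.getD (ix i) 0) (ix j) + bv ω (ss.getD (ix i) 0) (ix j) = bv ω ((addB rs ss).getD (ix i) 0) (ix j)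
  rw [← bv_xor h2]
  congr 1
  have hi := ix_lt i
  have h3 : ix i < (addB rs ss).length := by
    unfold addB
    rw [List.length_zipWith]; omega
  rw [List.getD_eq_getElem _ _ (by omega), List.getD_eq_getElem _ _ (by omega), List.getD_eq_getElem _ _ h3]
  exact (List.getElem_zipWith (h := h3)).symm

/-! ### the quadratic form `∑ x_i y_i` -/

/-- the matrix `P` with `Q(v) = v ⬝ᵥ P *ᵥ v` -/
def pB : List ℕ := [256, 1024, 4096, 16384, 0, 0, 0, 0]

theorem quad_eq (ω : F) (v : Fin 4 ⊕ Fin 4 → F) : Cfsg.quadFormPlus 4 F v = v ⬝ᵥ (bm ω pB *ᵥ v) := by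
  have key : ∀ k < 8, ∀ l < 8, (pB.getD k 0).testBit (2 * l) = decide (k + 4 = l) ∧
      (pB.getD k 0).testBit (2 * l + 1) = false := by decide +kernel
  have e : ∀ i j, bm ω pB i j = if ix i + 4 = ix j then 1 else 0 := by
    intro i j
    show bv ω (pB.getD (ix i) 0) (ix j) = _
    obtain ⟨h1, h2⟩ := key _ (ix_lt i) _ (ix_lt j)
    unfold bv
    rw [h1, h2]
    simp
  unfold Cfsg.quadFormPlus
  simp only [dotProduct, mulVec, e, ite_mul, one_mul, zero_mul]
  rw [Fintype.sum_sum_type]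
  have e2 : ∀ i : Fin 4, v (Sum.inr i) * ∑ j, (if ix (Sum.inr i) + 4 = ix j then v j else 0) = 0 := by
    intro i
    rw [Finset.sum_eq_zero, mul_zero]
    intro j _
    rw [if_neg]
    have := ix_lt j
    show ¬ (4 + (i : ℕ) + 4 = ix j)
    omega
  rw [Finset.sum_eq_zero (fun i _ => e2 i), add_zero]
  refine Finset.sum_congr rfl fun i _ => ?_
  congr 1
  rw [Finset.sum_eq_single (Sum.inr i)]
  · simp [ix, add_comm]
  · intro j _ hj
    rw [if_neg]
    intro h
    apply hj
    rcases j with j | j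
    · simp only [ix] at h; omega
    · simp only [ix] at h
      rw [Fin.ext (by omega : (i : ℕ) = j)]
  · simp

/-- alternating matrices -/
theorem alt_zero (h2 : ∀ x : F, x + x = 0) {A : Matrix (Fin 4 ⊕ Fin 4) (Fin 4 ⊕ Fin 4) F} (hA : Aᵀ = A)
    (hd : ∀ i, A i i = 0) (v : Fin 4 ⊕ Fin 4 → F) : v ⬝ᵥ (A *ᵥ v) = 0 := by
  simp only [dotProduct, mulVec, Finset.mul_sum]
  rw [← Finset.sum_product']
  apply Finset.sum_involution (fun x _ => (x.2, x.1))
  · intro x _
    have : A x.2 x.1 = A x.1 x.2 := by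
      conv_rhs => rw [← hA]
      rfl
    simp only [this]
    rw [show v x.2 * (A x.1 x.2 * v x.1) = v x.1 * (A x.1 x.2 * v x.2) by ring]
    exact h2 _
  · intro x _ hx hx'
    apply hx
    have : x.2 = x.1 := congrArg Prod.fst hx'
    rw [this, hd, zero_mul, mul_zero]
  · intro x _; exact Finset.mem_univ _
  · intro x _; rfl

/-- the check that `rs` (with transpose `ts`) preserves the quadratic form -/
def isoB (rs ts : List ℕ) : Bool :=
  let A := addB (mulB ts (mulB pB rs)) pB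
  isTr rs ts && isTr A A && (List.range 8).all fun i => decide (((A.getD i 0) >>> (2 * i)) % 4 = 0)

theorem iso_of (h2 : ∀ x : F, x + x = 0) {ω : F} (hω : ω * ω = ω + 1) {rs ts : List ℕ} (hr : rs.length = 8)
    (ht : ts.length = 8) (h : isoB rs ts = true) (v : Fin 4 ⊕ Fin 4 → F) :
    Cfsg.quadFormPlus 4 F (bm ω rs *ᵥ v) = Cfsg.quadFormPlus 4 F v := by
  unfold isoB at h
  simp only [Bool.and_eq_true, List.all_eq_true, decide_eq_true_eq] at h
  obtain ⟨⟨h3, h4⟩, h5⟩ := h
  set A := addB (mulB ts (mulB pB rs)) pB with hA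
  have e0 : (mulB pB rs).length = 8 := by simp [mulB, pB]
  have e1 : (mulB ts (mulB pB rs)).length = 8 := by simp [mulB, ht]
  have e2 : bm ω (mulB ts (mulB pB rs)) + bm ω pB = bm ω A := bm_add h2 ω e1 rfl
  have e3 : bm ω (mulB ts (mulB pB rs)) = bm ω A + bm ω pB := by
    rw [← e2, add_assoc]
    have : bm ω pB + bm ω pB = 0 := by
      ext i j; exact h2 _
    rw [this, add_zero]
  rw [← bm_mul h2 hω _ _ e0, ← bm_mul h2 hω _ _ hr, ← bm_tr ω h3] at e3
  rw [quad_eq ω, quad_eq ω]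
  have e4 : (bm ω rs *ᵥ v) ⬝ᵥ (bm ω pB *ᵥ (bm ω rs *ᵥ v)) = v ⬝ᵥ (((bm ω rs)ᵀ * (bm ω pB * bm ω rs)) *ᵥ v) := by
    rw [← Matrix.mulVec_mulVec, ← Matrix.mulVec_mulVec, dotProduct_comm (bm ω rs *ᵥ v), Matrix.dotProduct_mulVec,
      dotProduct_comm v, Matrix.mulVec_transpose]
  rw [e4, e3, Matrix.add_mulVec, dotProduct_add, alt_zero h2 (bm_tr ω h4), zero_add]
  intro i
  show bv ω (A.getD (ix i) 0) (ix i) = 0
  rw [← val_eq, h5 _ (List.mem_range.2 (ix_lt i))]
  rfl

/-- the check that `rs` (inverse `rs'`, transpose `ts`) is an isometry -/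
def okE (rs rs' ts : List ℕ) : Bool :=
  decide (rs.length = 8) && decide (rs'.length = 8) && decide (ts.length = 8) && decide (mulB rs rs' = oneB) &&
    decide (mulB rs' rs = oneB) && isoB rs ts

/-- the isometry with a given matrix of codes -/
def isoE (h2 : ∀ x : F, x + x = 0) {ω : F} (hω : ω * ω = ω + 1) {rs rs' ts : List ℕ} (h : okE rs rs' ts = true) :
    ↥(Cfsg.isometryGroup F (Cfsg.quadFormPlus 4 F)) :=
  ⟨⟨bm ω rs, bm ω rs', by
      unfold okE at h
      simp only [Bool.and_eq_true, decide_eq_true_eq] at h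
      obtain ⟨⟨⟨⟨⟨h3, h4⟩, h5⟩, h6⟩, h7⟩, h8⟩ := h
      rw [bm_mul h2 hω _ _ h4, h6, bm_one], by
      unfold okE at h
      simp only [Bool.and_eq_true, decide_eq_true_eq] at h
      obtain ⟨⟨⟨⟨⟨h3, h4⟩, h5⟩, h6⟩, h7⟩, h8⟩ := h
      rw [bm_mul h2 hω _ _ h3, h7, bm_one]⟩, by
    unfold okE at h
    simp only [Bool.and_eq_true, decide_eq_true_eq] at h
    obtain ⟨⟨⟨⟨⟨h3, h4⟩, h5⟩, h6⟩, h7⟩, h8⟩ := h
    intro u _
    exact iso_of h2 hω h3 h5 h8 u⟩

theorem coe_isoE (h2 : ∀ x : F, x + x = 0) {ω : F} (hω : ω * ω = ω + 1) {rs rs' ts : List ℕ}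
    (h : okE rs rs' ts = true) :
    ((isoE h2 hω h : Matrix.GeneralLinearGroup (Fin 4 ⊕ Fin 4) F) : Matrix (Fin 4 ⊕ Fin 4) (Fin 4 ⊕ Fin 4) F) =
      bm ω rs := rfl

theorem iso_ext {x y : ↥(Cfsg.isometryGroup F (Cfsg.quadFormPlus 4 F))}
    (h : ((x : Matrix.GeneralLinearGroup (Fin 4 ⊕ Fin 4) F) : Matrix (Fin 4 ⊕ Fin 4) (Fin 4 ⊕ Fin 4) F) =
      ((y : Matrix.GeneralLinearGroup (Fin 4 ⊕ Fin 4) F) : Matrix (Fin 4 ⊕ Fin 4) (Fin 4 ⊕ Fin 4) F)) : x = y :=
  Subtype.ext (Units.ext h)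

end

/-! ### the field with four elements -/

theorem exists_omega {F : Type*} [Field F] [Fintype F] (hF : Fintype.card F = 4) :
    (∀ x : F, x + x = 0) ∧ ∃ ω : F, ω * ω = ω + 1 ∧ ω ≠ 0 ∧ ω ≠ 1 ∧ ω + 1 ≠ 0 := by
  have h2 : ∀ x : F, x + x = 0 := by
    have h4 : (4 : F) = 0 := by
      have := FiniteField.cast_card_eq_zero F
      rw [hF] at this
      exact_mod_cast this
    have h5 : (2 : F) * 2 = 0 := by linear_combination h4
    have h6 : (2 : F) = 0 := by
      rcases mul_eq_zero.1 h5 with h | h <;> exact h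
    intro x
    linear_combination x * h6
  refine ⟨h2, ?_⟩
  have h3 : ∃ ω : F, ω ≠ 0 ∧ ω ≠ 1 := by
    classical
    by_contra hcon
    push Not at hcon
    have hsub : (Finset.univ : Finset F) ⊆ {0, 1} := by
      intro x _
      by_cases h : x = 0
      · simp [h]
      · simp [hcon x h]
    have := Finset.card_le_card hsub
    rw [Finset.card_univ, hF] at this
    have h7 : ({0, 1} : Finset F).card ≤ 2 := Finset.card_le_two
    omega
  obtain ⟨ω, h0, h1⟩ := h3
  have h11 : ω + 1 ≠ 0 := by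
    intro h
    apply h1
    linear_combination h - h2 1
  refine ⟨ω, ?_, h0, h1, h11⟩
  have h8 : ω ^ 3 = 1 := by
    have := FiniteField.pow_card_sub_one_eq_one ω h0
    rwa [hF] at this
  have h9 : (ω - 1) * (ω * ω + ω + 1) = 0 := by linear_combination h8
  rcases mul_eq_zero.1 h9 with h | h
  · exact absurd (sub_eq_zero.1 h) h1
  · linear_combination h - h2 (ω + 1)

end Cfsg.Agent.H893.EE
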